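import Groth.Agent.NormDetLib.Main

/-!
# The determinant of a projective module over a finite locally free algebra
-/

set_option autoImplicit false
set_option linter.style.haveILetI false
set_option maxHeartbeats 2000000

universe u v

open TensorProduct

namespace NormDetLib

section top

variable {R : Type u} [CommRing R] {m : ℕ}

/-- The standard generator of the top power. -/
noncomputable def topE (R : Type u) [CommRing R] (m : ℕ) : ⋀[R]^m (Fin m → R) :=
  exteriorPower.ιMulti R m fun i => Pi.single i 1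

/-- The coordinate on the top power. -/
noncomputable def topDet (R : Type u) [CommRing R] (m : ℕ) : ⋀[R]^m (Fin m → R) →ₗ[R] R :=
  exteriorPower.alternatingMapLinearEquiv (Pi.basisFun R (Fin m)).det

theorem topDet_topE : topDet R m (topE R m) = 1 := by
  rw [topDet, topE, exteriorPower.alternatingMapLinearEquiv_apply_ιMulti]
  have : (fun i => Pi.single i (1 : R)) = ⇑(Pi.basisFun R (Fin m)) := by funext i; simp
  rw [this, Module.Basis.det_self]

theorem top_eq (z : ⋀[R]^m (Fin m → R)) : z = topDet R m z • topE R m := by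
  suffices h : LinearMap.id = (topDet R m).smulRight (topE R m) from LinearMap.congr_fun h z
  refine exteriorPower.linearMap_ext ((Pi.basisFun R (Fin m)).ext_alternating fun v hv => ?_)
  let σ : Equiv.Perm (Fin m) := Equiv.ofBijective v (Finite.injective_iff_bijective.1 hv)
  have h1 : (fun i => (Pi.basisFun R (Fin m)) (v i)) = (fun i => (Pi.basisFun R (Fin m)) i) ∘ σ := rfl
  have h2 : topE R m = exteriorPower.ιMulti R m fun i => (Pi.basisFun R (Fin m)) i := by simp [topE]
  simp only [LinearMap.compAlternatingMap_apply, LinearMap.id_coe, id_eq, LinearMap.smulRight_apply, topDet,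
    exteriorPower.alternatingMapLinearEquiv_apply_ιMulti, h1]
  rw [AlternatingMap.map_perm, AlternatingMap.map_perm, Module.Basis.det_self, h2]
  simp [Units.smul_def, Int.cast_smul_eq_zsmul]

theorem map_endo (L : (Fin m → R) →ₗ[R] (Fin m → R)) (ω : ⋀[R]^m (Fin m → R)) :
    exteriorPower.map m L ω = LinearMap.det L • ω := by
  conv_lhs => rw [top_eq ω, map_smul, top_eq (exteriorPower.map m L (topE R m)), smul_smul]
  conv_rhs => rw [top_eq ω, smul_smul]
  congr 1
  rw [mul_comm]
  congr 1
  rw [topE, exteriorPower.map_apply_ιMulti, topDet, exteriorPower.alternatingMapLinearEquiv_apply_ιMulti]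
  have : (L ∘ fun i => Pi.single i (1 : R)) = ⇑L ∘ ⇑(Pi.basisFun R (Fin m)) := by funext i; simp
  rw [this, Module.Basis.det_comp, Module.Basis.det_self, mul_one]

theorem map_comp_apply {M N P : Type v} [AddCommGroup M] [Module R M] [AddCommGroup N] [Module R N]
    [AddCommGroup P] [Module R P] (f : M →ₗ[R] N) (g : N →ₗ[R] P) (ω : ⋀[R]^m M) :
    exteriorPower.map m g (exteriorPower.map m f ω) = exteriorPower.map m (g ∘ₗ f) ω :=
  (LinearMap.congr_fun (exteriorPower.map_comp (n := m) f g) ω).symm

end top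

section block

variable {A B : Type u} [CommRing A] [CommRing B] [Algebra A B] {n : ℕ}

/-- The matrix of multiplication, up to a scalar. -/
noncomputable def phi (π : (Fin n → A) →ₗ[A] B) (g : B →ₗ[A] (Fin n → A)) (b : B) : Matrix (Fin n) (Fin n) A :=
  LinearMap.toMatrix' (g ∘ₗ LinearMap.mulLeft A b ∘ₗ π)

theorem phi_mul (π : (Fin n → A) →ₗ[A] B) (g : B →ₗ[A] (Fin n → A)) (s : A) (h : ∀ x, π (g x) = s • x) (b c : B) :
    phi π g b * phi π g c = s • phi π g (b * c) := by
  rw [phi, phi, ← LinearMap.toMatrix'_comp, phi, ← map_smul]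
  congr 1
  refine LinearMap.ext fun v => ?_
  show g (b * π (g (c * π v))) = s • g (b * c * π v)
  rw [h, mul_smul_comm, map_smul, mul_assoc]

/-- The restriction of scalars of a determinant, up to a scalar. -/
theorem exists_det_block (π : (Fin n → A) →ₗ[A] B) (g : B →ₗ[A] (Fin n → A)) (s : A)
    (hπg : ∀ x, π (g x) = s • x) (hgπ : ∀ v, g (π v) = s • v) {k : ℕ} (T : Matrix (Fin k) (Fin k) B) :
    ∃ l : ℕ, s ^ l * (((T.map (phi π g)).comp (Fin k) (Fin k) (Fin n) (Fin n) A).det * s ^ n) =
      s ^ l * ((phi π g T.det).det * s ^ (k * n)) := by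
  let L := Localization.Away s
  let al : A →+* L := algebraMap A L
  obtain ⟨u, hu⟩ := IsLocalization.map_units L (⟨s, Submonoid.mem_powers s⟩ : Submonoid.powers s)
  have hu' : al s * ↑u⁻¹ = 1 := by
    rw [show al s = (u : L) from hu.symm, Units.mul_inv]
  have hone : phi π g 1 = s • (1 : Matrix (Fin n) (Fin n) A) := by
    rw [phi, ← LinearMap.toMatrix'_id, ← map_smul]
    congr 1
    exact LinearMap.ext fun v => by simp [hgπ]
  let ψ : B →+* Matrix (Fin n) (Fin n) L :=
    { toFun := fun b => (↑u⁻¹ : L) • al.mapMatrix (phi π g b)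
      map_zero' := by simp [phi]
      map_add' := fun b c => by
        have : phi π g (b + c) = phi π g b + phi π g c := by
          rw [phi, phi, phi, ← map_add]
          congr 1
          exact LinearMap.ext fun v => by simp [add_mul]
        rw [this, map_add, smul_add]
      map_one' := by
        rw [hone, show al.mapMatrix (s • (1 : Matrix (Fin n) (Fin n) A)) = al s • (1 : Matrix (Fin n) (Fin n) L) by
          ext i j; by_cases hij : i = j <;> simp [hij, Matrix.one_apply], smul_smul, mul_comm, hu', one_smul]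
      map_mul' := fun b c => by
        rw [Matrix.smul_mul, Matrix.mul_smul, smul_smul, ← map_mul, phi_mul π g s hπg,
          show al.mapMatrix (s • phi π g (b * c)) = al s • al.mapMatrix (phi π g (b * c)) by ext i j; simp,
          smul_smul, show (↑u⁻¹ : L) * ↑u⁻¹ * al s = ↑u⁻¹ * (al s * ↑u⁻¹) by ring, hu', mul_one] }
  have hψ : ∀ b, al.mapMatrix (phi π g b) = al s • ψ b := fun b => by
    show _ = al s • ((↑u⁻¹ : L) • al.mapMatrix (phi π g b))
    rw [smul_smul, hu', one_smul]
  have key : al (((T.map (phi π g)).comp (Fin k) (Fin k) (Fin n) (Fin n) A).det * s ^ n) =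
      al ((phi π g T.det).det * s ^ (k * n)) := by
    rw [map_mul, map_mul, map_pow, map_pow, RingHom.map_det, RingHom.map_det, hψ T.det,
      show al.mapMatrix ((T.map (phi π g)).comp (Fin k) (Fin k) (Fin n) (Fin n) A) =
        al s • (T.map ψ).comp (Fin k) (Fin k) (Fin n) (Fin n) L by
          ext ⟨i, l⟩ ⟨i', l'⟩
          have := congrArg (fun X => X l l') (hψ (T i i'))
          simpa using this,
      Matrix.det_smul, Matrix.det_smul, ← Matrix.det_det T ψ, Fintype.card_prod, Fintype.card_fin, Fintype.card_fin]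
    ring
  obtain ⟨⟨_, l, rfl⟩, hl⟩ := (IsLocalization.eq_iff_exists (Submonoid.powers s) L).1 key
  exact ⟨l, hl⟩

variable (j : ℕ)

/-- The scaled inverse of `(Fin (j+1) × Fin n → A) → (Fin (j+1) → B)`. -/
noncomputable def piV (π : (Fin n → A) →ₗ[A] B) : (Fin ((j + 1) * n) → A) →ₗ[A] (Fin (j + 1) → B) :=
  LinearMap.pi fun i => π ∘ₗ LinearMap.funLeft A A fun l => finProdFinEquiv (i, l)

noncomputable def gV (g : B →ₗ[A] (Fin n → A)) : (Fin (j + 1) → B) →ₗ[A] (Fin ((j + 1) * n) → A) :=
  LinearMap.pi fun q => LinearMap.proj (finProdFinEquiv.symm q).2 ∘ₗ g ∘ₗ LinearMap.proj (finProdFinEquiv.symm q).1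

theorem piV_gV (π : (Fin n → A) →ₗ[A] B) (g : B →ₗ[A] (Fin n → A)) (s : A) (h : ∀ x, π (g x) = s • x)
    (x : Fin (j + 1) → B) : piV j π (gV j g x) = s • x := by
  funext i
  show π (fun l => g (x (finProdFinEquiv.symm (finProdFinEquiv (i, l))).1) (finProdFinEquiv.symm (finProdFinEquiv (i, l))).2) = _
  simp only [Equiv.symm_apply_apply]
  exact h (x i)

theorem gV_piV (π : (Fin n → A) →ₗ[A] B) (g : B →ₗ[A] (Fin n → A)) (s : A) (h : ∀ v, g (π v) = s • v)
    (v : Fin ((j + 1) * n) → A) : gV j g (piV j π v) = s • v := by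
  funext q
  show g (π fun l => v (finProdFinEquiv ((finProdFinEquiv.symm q).1, l))) (finProdFinEquiv.symm q).2 = _
  rw [h]
  show s * v (finProdFinEquiv ((finProdFinEquiv.symm q).1, (finProdFinEquiv.symm q).2)) = s * v q
  rw [Prod.mk.eta, Equiv.apply_symm_apply]

theorem piV_single (π : (Fin n → A) →ₗ[A] B) (i : Fin (j + 1)) (l : Fin n) :
    piV j π (Pi.single (finProdFinEquiv (i, l)) 1) = Pi.single i (π (Pi.single l 1)) := by
  funext i'
  show π (fun l' => (Pi.single (finProdFinEquiv (i, l)) (1 : A) : Fin ((j + 1) * n) → A) (finProdFinEquiv (i', l'))) = _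
  by_cases hi : i' = i
  · subst hi
    rw [Pi.single_eq_same]
    congr 1
    funext l'
    by_cases hl : l' = l
    · subst hl; simp
    · rw [Pi.single_eq_of_ne hl, Pi.single_eq_of_ne (by simp [hl])]
  · rw [Pi.single_eq_of_ne hi]
    refine (congrArg π ?_).trans (map_zero π)
    funext l'
    exact Pi.single_eq_of_ne (by simp [hi]) _

theorem toMatrix_endo (π : (Fin n → A) →ₗ[A] B) (g : B →ₗ[A] (Fin n → A))
    (L : (Fin (j + 1) → B) →ₗ[B] (Fin (j + 1) → B)) :
    LinearMap.toMatrix' (gV j g ∘ₗ L.restrictScalars A ∘ₗ piV j π) =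
      Matrix.reindex finProdFinEquiv finProdFinEquiv
        (((LinearMap.toMatrix' L).map (phi π g)).comp (Fin (j + 1)) (Fin (j + 1)) (Fin n) (Fin n) A) := by
  ext q q'
  obtain ⟨⟨i, l⟩, rfl⟩ := finProdFinEquiv.surjective q
  obtain ⟨⟨i', l'⟩, rfl⟩ := finProdFinEquiv.surjective q'
  simp only [Matrix.reindex_apply, Matrix.submatrix_apply, Equiv.symm_apply_apply, Matrix.comp_apply, Matrix.map_apply,
    phi, LinearMap.toMatrix'_apply, LinearMap.comp_apply, LinearMap.coe_restrictScalars]
  rw [piV_single]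
  have e : L (Pi.single i' (π (Pi.single l' 1))) i = (L (Pi.single i' 1)) i * π (Pi.single l' 1) := by
    have h1 : Pi.single i' (π (Pi.single l' 1)) = π (Pi.single l' 1) • (Pi.single i' (1 : B) : Fin (j + 1) → B) := by
      funext t
      by_cases ht : t = i'
      · subst ht; simp
      · simp [Pi.single_eq_of_ne ht]
    rw [h1, map_smul, Pi.smul_apply, smul_eq_mul, mul_comm]
  show g (L (Pi.single i' (π (Pi.single l' 1))) (finProdFinEquiv.symm (finProdFinEquiv (i, l))).1)
    (finProdFinEquiv.symm (finProdFinEquiv (i, l))).2 = _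
  rw [Equiv.symm_apply_apply, e]
  rfl

/-- The inclusion of the `i`-th block. -/
noncomputable def blockJ (i : Fin (j + 1)) : (⋀[A]^n B) →ₗ[A] ExteriorAlgebra A (Fin (j + 1) → B) :=
  (⋀[A]^n (Fin (j + 1) → B)).subtype ∘ₗ exteriorPower.map n (LinearMap.single A (fun _ => B) i)

theorem list_prod_mem {E : Type u} [Semiring E] [Algebra A E] (P : Submodule A E) (l : List E) (h : ∀ x ∈ l, x ∈ P) :
    l.prod ∈ P ^ l.length := by
  induction l with
  | nil =>
    rw [List.prod_nil, List.length_nil, pow_zero, Submodule.one_eq_range]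
    exact ⟨1, by simp⟩
  | cons a l ih =>
    rw [List.prod_cons, List.length_cons, pow_succ']
    exact Submodule.mul_mem_mul (h a (by simp)) (ih fun x hx => h x (by simp [hx]))

/-- The product of the blocks. -/
noncomputable def thetaAlg :
    (TensorPower A j (⋀[A]^n B)) ⊗[A] (⋀[A]^n B) →ₗ[A] ExteriorAlgebra A (Fin (j + 1) → B) :=
  TensorProduct.lift ((LinearMap.mul A (ExteriorAlgebra A (Fin (j + 1) → B))).compl₁₂
    (PiTensorProduct.lift ((MultilinearMap.mkPiAlgebraFin A j (ExteriorAlgebra A (Fin (j + 1) → B))).compLinearMap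
      fun i => blockJ (A := A) (B := B) (n := n) j i.castSucc))
    (blockJ (A := A) (B := B) (n := n) j (Fin.last j)))

theorem thetaAlg_tmul (u : Fin j → ⋀[A]^n B) (ω : ⋀[A]^n B) :
    thetaAlg j (PiTensorProduct.tprod A u ⊗ₜ ω) =
      (List.ofFn fun i => blockJ (n := n) j i.castSucc (u i)).prod * blockJ j (Fin.last j) ω := by
  rw [thetaAlg, TensorProduct.lift.tmul, LinearMap.compl₁₂_apply, PiTensorProduct.lift.tprod,
    MultilinearMap.compLinearMap_apply, MultilinearMap.mkPiAlgebraFin_apply]
  rfl

theorem thetaAlg_mem (ξ : (TensorPower A j (⋀[A]^n B)) ⊗[A] (⋀[A]^n B)) :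
    thetaAlg j ξ ∈ ⋀[A]^((j + 1) * n) (Fin (j + 1) → B) := by
  induction ξ using TensorProduct.induction_on with
  | zero => simp
  | add a b ha hb => rw [map_add]; exact add_mem ha hb
  | tmul t ω =>
    induction t using PiTensorProduct.induction_on with
    | smul_tprod r u =>
      rw [← smul_tmul', map_smul, thetaAlg_tmul]
      refine Submodule.smul_mem _ _ ?_
      rw [ExteriorAlgebra.exteriorPower, mul_comm, pow_mul, pow_succ]
      refine Submodule.mul_mem_mul ?_ (Subtype.prop _)
      have := list_prod_mem (A := A) _ _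
        (fun x (hx : x ∈ List.ofFn fun i => blockJ (A := A) (n := n) j i.castSucc (u i)) => by
          obtain ⟨i, rfl⟩ := List.mem_ofFn.1 hx
          exact Subtype.prop (exteriorPower.map n (LinearMap.single A (fun _ => B) i.castSucc) (u i)))
      rwa [List.length_ofFn] at this
    | add a b ha hb => rw [add_tmul, map_add]; exact add_mem ha hb

/-- The product of the blocks, into the top power. -/
noncomputable def theta :
    (TensorPower A j (⋀[A]^n B)) ⊗[A] (⋀[A]^n B) →ₗ[A] ⋀[A]^((j + 1) * n) (Fin (j + 1) → B) :=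
  LinearMap.codRestrict _ (thetaAlg j) (thetaAlg_mem j)

theorem theta_gen (π : (Fin n → A) →ₗ[A] B) :
    theta j (PiTensorProduct.tprod A (fun _ : Fin j => exteriorPower.map n π (topE A n)) ⊗ₜ
      exteriorPower.map n π (topE A n)) = exteriorPower.map _ (piV j π) (topE A ((j + 1) * n)) := by
  apply Subtype.ext
  show thetaAlg j _ = _
  rw [thetaAlg_tmul, topE, topE, exteriorPower.map_apply_ιMulti, exteriorPower.map_apply_ιMulti,
    exteriorPower.ιMulti_apply_coe, ExteriorAlgebra.ιMulti_apply]
  have hblock : ∀ i : Fin (j + 1),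
      blockJ (A := A) (n := n) j i (exteriorPower.ιMulti A n (π ∘ fun l => Pi.single l (1 : A))) =
      (List.ofFn fun l : Fin n => ExteriorAlgebra.ι A (Pi.single i (π (Pi.single l 1)) : Fin (j + 1) → B)).prod := by
    intro i
    show ((exteriorPower.map n (LinearMap.single A (fun _ => B) i)
      (exteriorPower.ιMulti A n (π ∘ fun l => Pi.single l (1 : A)))) : ExteriorAlgebra A (Fin (j + 1) → B)) = _
    rw [exteriorPower.map_apply_ιMulti, exteriorPower.ιMulti_apply_coe, ExteriorAlgebra.ιMulti_apply]
    rfl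
  simp only [hblock, List.ofFn_mul, List.prod_flatten, List.map_ofFn]
  rw [List.ofFn_succ' (n := j), List.concat_eq_append, List.prod_append, List.prod_singleton]
  have hq : ∀ (i : Fin (j + 1)) (l : Fin n) (hlt : (i : ℕ) * n + l < (j + 1) * n),
      (⟨(i : ℕ) * n + l, hlt⟩ : Fin ((j + 1) * n)) = finProdFinEquiv (i, l) := fun i l hlt => by
    apply Fin.ext
    simp [finProdFinEquiv, mul_comm, add_comm]
  simp only [Function.comp_apply, hq, piV_single]

end block

end NormDetLib
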