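import Groth.Agent.NormDetLib.Higher

/-!
# The determinant formula
-/

set_option autoImplicit false
set_option linter.style.haveILetI false
set_option maxHeartbeats 2000000

universe u v

open TensorProduct

namespace NormDetLib

section gen

variable {A B : Type u} [CommRing A] [CommRing B] [Algebra A B] [Module.Finite A B] {k : ℕ}

/-- Generators near a prime, with an inverse up to a scalar. -/
theorem exists_generators (p : PrimeSpectrum A) (M : Type u) [AddCommGroup M] [Module B M] [Module.Finite B M]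
    [Module.Projective B M] (h : ∀ q : PrimeSpectrum B, Module.rankAtStalk M q = k) :
    ∃ (π : (Fin k → B) →ₗ[B] M) (g : M →ₗ[B] (Fin k → B)) (a : A), a ∉ p.asIdeal ∧
      (∀ x, π (g x) = algebraMap A B a • x) ∧ ∀ v, g (π v) = algebraMap A B a • v := by
  let S := Algebra.algebraMapSubmonoid B p.asIdeal.primeCompl
  let L := Localization S
  haveI : Finite (MaximalSpectrum L) := finite_maximalSpectrum (Localization.AtPrime p.asIdeal) L
  have hrk : ∀ P : MaximalSpectrum L, Module.finrank (L ⧸ P.1) ((L ⧸ P.1) ⊗[L] (L ⊗[B] M)) = k := fun P => by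
    letI := Ideal.Quotient.field P.1
    let q : PrimeSpectrum (L ⧸ P.1) := ⟨⊥, Ideal.isPrime_bot⟩
    have h1 := congrFun (Module.rankAtStalk_eq_finrank_of_free (R := L ⧸ P.1) (M := (L ⧸ P.1) ⊗[L] (L ⊗[B] M))) q
    rw [Module.rankAtStalk_baseChange, Module.rankAtStalk_baseChange, h] at h1
    exact h1.symm
  obtain ⟨b⟩ := Module.nonempty_basis_of_flat_of_finrank_eq L (L ⊗[B] M) k hrk
  let e : L ⊗[B] M ≃ₗ[L] LocalizedModule S M :=
    (IsLocalizedModule.isBaseChange S L (LocalizedModule.mkLinearMap S M)).equiv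
  obtain ⟨π, g, s, hs, hπg, hgπ⟩ := exists_scaled_inverse S M (b.map e)
  obtain ⟨a, ha, rfl⟩ := hs
  exact ⟨π, g, a, ha, hπg, hgπ⟩

end gen

section det

theorem nonempty_linearEquiv_of_graph' {A : Type u} [CommRing A] {U V : Type v} [AddCommMonoid U] [Module A U]
    [AddCommMonoid V] [Module A V] (G : Submodule A (U × V))
    (hU : ∀ p : PrimeSpectrum A, ∀ u : U, ∃ s ∉ p.asIdeal, ∃ v, (s • u, v) ∈ G)
    (hV : ∀ p : PrimeSpectrum A, ∀ v : V, ∃ s ∉ p.asIdeal, ∃ u, (u, s • v) ∈ G)
    (h0U : ∀ p : PrimeSpectrum A, ∀ x ∈ G, x.1 = 0 → ∃ s ∉ p.asIdeal, s • x.2 = 0)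
    (h0V : ∀ p : PrimeSpectrum A, ∀ x ∈ G, x.2 = 0 → ∃ s ∉ p.asIdeal, s • x.1 = 0) :
    Nonempty (U ≃ₗ[A] V) := by
  letI := Module.addCommMonoidToAddCommGroup A (M := U)
  letI := Module.addCommMonoidToAddCommGroup A (M := V)
  exact nonempty_linearEquiv_of_graph G hU hV h0U h0V

variable {A B : Type u} [CommRing A] [CommRing B] [Algebra A B] [Module.Finite A B] [Module.Projective A B]

/-- Two families of maps which are proportional near each prime define an isomorphism. -/
theorem nonempty_linearEquiv_of_local {A : Type u} [CommRing A] {ι : Type*} {X U V : Type v} [AddCommMonoid X]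
    [Module A X] [AddCommMonoid U] [Module A U] [AddCommMonoid V] [Module A V] (Φ : ι → X →ₗ[A] U) (Ψ : ι → X →ₗ[A] V)
    (loc : ∀ p : PrimeSpectrum A, ∃ (m : ι) (Φ' : U →ₗ[A] X) (Ψ' : V →ₗ[A] X) (c₁ c₂ : A),
      c₁ ∉ p.asIdeal ∧ c₂ ∉ p.asIdeal ∧
      (∀ u, Φ m (Φ' u) = c₁ • u) ∧ (∀ ζ, Φ' (Φ m ζ) = c₁ • ζ) ∧
      (∀ v, Ψ m (Ψ' v) = c₂ • v) ∧ (∀ ζ, Ψ' (Ψ m ζ) = c₂ • ζ) ∧
      ∀ x ξ, ∃ c ∉ p.asIdeal, ∃ ζ, c • Φ x ξ = Φ m ζ ∧ c • Ψ x ξ = Ψ m ζ) :
    Nonempty (U ≃ₗ[A] V) := by
  let G := Submodule.span A (Set.range fun z : ι × X => (Φ z.1 z.2, Ψ z.1 z.2))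
  refine nonempty_linearEquiv_of_graph' G (fun p u => ?_) (fun p v => ?_) (fun p z hz h0 => ?_) (fun p z hz h0 => ?_)
  all_goals obtain ⟨m, Φ', Ψ', c₁, c₂, hc₁, hc₂, hΦ, hΦ', hΨ, hΨ', hx⟩ := loc p
  · exact ⟨c₁, hc₁, Ψ m (Φ' u), hΦ u ▸ Submodule.subset_span ⟨(m, Φ' u), rfl⟩⟩
  · exact ⟨c₂, hc₂, Φ m (Ψ' v), hΨ v ▸ Submodule.subset_span ⟨(m, Ψ' v), rfl⟩⟩
  all_goals
    have hG : ∀ z ∈ G, ∃ c ∉ p.asIdeal, ∃ ζ, c • z.1 = Φ m ζ ∧ c • z.2 = Ψ m ζ := by
      intro z hz
      induction hz using Submodule.span_induction with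
      | zero => exact ⟨1, fun h => p.2.ne_top ((Ideal.eq_top_iff_one _).2 h), 0, by simp, by simp⟩
      | mem _ hw => obtain ⟨⟨x, ξ⟩, rfl⟩ := hw; exact hx x ξ
      | smul r u _ hu =>
        obtain ⟨c, hc, ζ, h1, h2⟩ := hu
        exact ⟨c, hc, r • ζ, by rw [Prod.smul_fst, smul_comm, h1, map_smul], by rw [Prod.smul_snd, smul_comm, h2, map_smul]⟩
      | add u v _ _ hu hv =>
        obtain ⟨c, hc, ζ, h1, h2⟩ := hu
        obtain ⟨c', hc', ζ', h1', h2'⟩ := hv
        refine ⟨c * c', fun h => (p.2.mem_or_mem h).elim hc hc', c' • ζ + c • ζ', ?_, ?_⟩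
        · rw [map_add, map_smul, map_smul, Prod.fst_add, smul_add, ← h1, ← h1', smul_smul, smul_smul, mul_comm c' c]
        · rw [map_add, map_smul, map_smul, Prod.snd_add, smul_add, ← h2, ← h2', smul_smul, smul_smul, mul_comm c' c]
    obtain ⟨c, hc, ζ, h1, h2⟩ := hG z hz
  · refine ⟨c₁ * c, fun h => (p.2.mem_or_mem h).elim hc₁ hc, ?_⟩
    rw [mul_smul, h2, ← map_smul, ← hΦ', ← h1, h0, smul_zero, map_zero, map_zero]
  · refine ⟨c₂ * c, fun h => (p.2.mem_or_mem h).elim hc₂ hc, ?_⟩
    rw [mul_smul, h1, ← map_smul, ← hΨ', ← h2, h0, smul_zero, map_zero, map_zero]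

theorem det_formula (n j : ℕ) (hn : ∀ q : PrimeSpectrum A, Module.rankAtStalk B q = n)
    (M : Type u) [AddCommGroup M] [Module B M] [Module A M] [IsScalarTower A B M]
    [Module.Finite B M] [Module.Projective B M] (hM : ∀ q : PrimeSpectrum B, Module.rankAtStalk M q = j + 1) :
    Nonempty ((⋀[A]^((j + 1) * n) M) ≃ₗ[A]
      (TensorPower A j (⋀[A]^n B)) ⊗[A] (⋀[A]^n (⋀[B]^(j + 1) M))) := by
  classical
  set N := (j + 1) * n with hN
  let μ : (Fin (j + 1) → M) → (Fin (j + 1) → B) →ₗ[B] M := fun x => Fintype.linearCombination B x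
  let Φ : (Fin (j + 1) → M) → ((TensorPower A j (⋀[A]^n B)) ⊗[A] (⋀[A]^n B)) →ₗ[A] ⋀[A]^N M := fun x =>
    exteriorPower.map N ((μ x).restrictScalars A) ∘ₗ theta j
  let d : (Fin (j + 1) → M) → ⋀[B]^(j + 1) M := fun x => exteriorPower.map (j + 1) (μ x) (topE B (j + 1))
  let Ψ : (Fin (j + 1) → M) → ((TensorPower A j (⋀[A]^n B)) ⊗[A] (⋀[A]^n B)) →ₗ[A]
      ((TensorPower A j (⋀[A]^n B)) ⊗[A] (⋀[A]^n (⋀[B]^(j + 1) M))) := fun x =>
    LinearMap.lTensor _ (exteriorPower.map n (mu (d x)))
  have loc : ∀ p : PrimeSpectrum A, ∃ (m : Fin (j + 1) → M) (Φ' : (⋀[A]^N M) →ₗ[A] ((TensorPower A j (⋀[A]^n B)) ⊗[A] (⋀[A]^n B)))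
      (Ψ' : ((TensorPower A j (⋀[A]^n B)) ⊗[A] (⋀[A]^n (⋀[B]^(j + 1) M))) →ₗ[A]
        ((TensorPower A j (⋀[A]^n B)) ⊗[A] (⋀[A]^n B))) (c₁ c₂ : A), c₁ ∉ p.asIdeal ∧ c₂ ∉ p.asIdeal ∧
      (∀ u, Φ m (Φ' u) = c₁ • u) ∧ (∀ ζ, Φ' (Φ m ζ) = c₁ • ζ) ∧
      (∀ v, Ψ m (Ψ' v) = c₂ • v) ∧ (∀ ζ, Ψ' (Ψ m ζ) = c₂ • ζ) ∧
      ∀ x ξ, ∃ c ∉ p.asIdeal, ∃ ζ, c • Φ x ξ = Φ m ζ ∧ c • Ψ x ξ = Ψ m ζ := by
    intro p
    have hpr : ∀ {a b : A}, a ∉ p.asIdeal → b ∉ p.asIdeal → a * b ∉ p.asIdeal :=
      fun ha hb h => (p.2.mem_or_mem h).elim ha hb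
    have hpow : ∀ {a : A} (i : ℕ), a ∉ p.asIdeal → a ^ i ∉ p.asIdeal :=
      fun i ha h => ha (p.2.mem_of_pow_mem i h)
    haveI : Module.Free (Localization.AtPrime p.asIdeal) (LocalizedModule p.asIdeal.primeCompl B) :=
      Module.free_of_flat_of_isLocalRing
    let bB := Module.finBasisOfFinrankEq (Localization.AtPrime p.asIdeal) (LocalizedModule p.asIdeal.primeCompl B) (hn p)
    obtain ⟨πB, gB, s, hs, hπgB, hgπB⟩ := exists_scaled_inverse p.asIdeal.primeCompl B bB
    obtain ⟨π, g, a, ha, hπg, hgπ⟩ := exists_generators p M hM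
    let m : Fin (j + 1) → M := fun i => π (Pi.single i 1)
    have hμm : μ m = π := LinearMap.pi_ext' fun i => LinearMap.ext_ring (by simp [μ, m])
    -- the source of `theta`
    let eB : ⋀[A]^n B := exteriorPower.map n πB (topE A n)
    let ξ₀ := PiTensorProduct.tprod A (fun _ : Fin j => eB) ⊗ₜ[A] eB
    have hsB : ∀ ω : ⋀[A]^n B, s ^ n • ω = topDet A n (exteriorPower.map n gB ω) • eB := fun ω => by
      have h := map_comp_apply (m := n) gB πB ω
      rw [show πB ∘ₗ gB = s • LinearMap.id from LinearMap.ext hπgB, map_id_smul] at h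
      rw [show eB = exteriorPower.map n πB (topE A n) from rfl, ← map_smul, ← top_eq]
      exact h.symm
    have hξ : ∀ ξ, ∃ r : A, s ^ N • ξ = r • ξ₀ := by
      intro ξ
      induction ξ using TensorProduct.induction_on with
      | zero => exact ⟨0, by simp⟩
      | add x y hx hy =>
        obtain ⟨r, hr⟩ := hx
        obtain ⟨r', hr'⟩ := hy
        exact ⟨r + r', by rw [smul_add, hr, hr', add_smul]⟩
      | tmul t ω =>
        induction t using PiTensorProduct.induction_on with
        | smul_tprod r u =>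
          refine ⟨r * ((∏ i, topDet A n (exteriorPower.map n gB (u i))) * topDet A n (exteriorPower.map n gB ω)), ?_⟩
          have h1 : (s ^ n) ^ j • PiTensorProduct.tprod A u = (∏ i, topDet A n (exteriorPower.map n gB (u i))) •
              PiTensorProduct.tprod A (fun _ : Fin j => eB) := by
            rw [← MultilinearMap.map_smul_univ, show ((s ^ n) ^ j) = ∏ _i : Fin j, s ^ n by simp,
              ← MultilinearMap.map_smul_univ]
            exact congrArg _ (funext fun i => hsB (u i))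
          rw [show s ^ N = (s ^ n) ^ j * s ^ n by rw [hN, ← pow_mul, ← pow_add]; congr 1; ring,
            mul_smul r, ← smul_tmul', smul_comm _ r]
          congr 1
          rw [← smul_tmul_smul, h1, hsB, smul_tmul_smul]
        | add x y hx hy =>
          obtain ⟨r, hr⟩ := hx
          obtain ⟨r', hr'⟩ := hy
          exact ⟨r + r', by rw [add_tmul, smul_add, hr, hr', add_smul]⟩
    choose r hr using hξ
    have hθ : theta j ξ₀ = exteriorPower.map N (piV j πB) (topE A N) := theta_gen j πB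
    let θ' : (⋀[A]^N (Fin (j + 1) → B)) →ₗ[A] ((TensorPower A j (⋀[A]^n B)) ⊗[A] (⋀[A]^n B)) :=
      (topDet A N ∘ₗ exteriorPower.map N (gV j gB)).smulRight ξ₀
    have hgp : topDet A N (exteriorPower.map N (gV j gB) (theta j ξ₀)) = s ^ N := by
      rw [hθ, map_comp_apply, show gV j gB ∘ₗ piV j πB = s • LinearMap.id from LinearMap.ext (gV_piV j πB gB s hgπB),
        map_id_smul, LinearMap.smul_apply, LinearMap.id_apply, map_smul, topDet_topE, smul_eq_mul, mul_one]
    have hθ'θ : ∀ ξ, (s ^ N) • θ' (theta j ξ) = (s ^ (N + N)) • ξ := fun ξ => by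
      rw [← map_smul, ← map_smul, hr, map_smul, map_smul]
      show r ξ • (topDet A N (exteriorPower.map N (gV j gB) (theta j ξ₀)) • ξ₀) = _
      rw [hgp, smul_comm, ← hr, smul_smul, ← pow_add]
    have hθθ' : ∀ η, theta j (θ' η) = s ^ N • η := fun η => by
      show theta j (topDet A N (exteriorPower.map N (gV j gB) η) • ξ₀) = _
      rw [map_smul, hθ, ← map_smul, ← top_eq, map_comp_apply,
        show piV j πB ∘ₗ gV j gB = s • LinearMap.id from LinearMap.ext (piV_gV j πB gB s hπgB), map_id_smul]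
      rfl
    let Φ' : (⋀[A]^N M) →ₗ[A] ((TensorPower A j (⋀[A]^n B)) ⊗[A] (⋀[A]^n B)) :=
      s ^ N • (θ' ∘ₗ exteriorPower.map N (g.restrictScalars A))
    have hπgA : π.restrictScalars A ∘ₗ g.restrictScalars A = a • LinearMap.id := LinearMap.ext fun x => by
      show π (g x) = a • x
      rw [hπg, algebraMap_smul]
    have hgπA : g.restrictScalars A ∘ₗ π.restrictScalars A = a • LinearMap.id := LinearMap.ext fun x => by
      show g (π x) = a • x
      rw [hgπ, algebraMap_smul]
    -- the determinant line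
    have hd : d m = exteriorPower.map (j + 1) π (topE B (j + 1)) := by show exteriorPower.map (j + 1) (μ m) _ = _; rw [hμm]
    let GD : (⋀[B]^(j + 1) M) →ₗ[B] B := topDet B (j + 1) ∘ₗ exteriorPower.map (j + 1) g
    have hGD1 : GD (d m) = algebraMap A B (a ^ (j + 1)) := by
      show topDet B (j + 1) (exteriorPower.map (j + 1) g (d m)) = _
      rw [hd, map_comp_apply, show g ∘ₗ π = algebraMap A B a • LinearMap.id from LinearMap.ext hgπ, map_id_smul,
        LinearMap.smul_apply, LinearMap.id_apply, map_smul, topDet_topE, smul_eq_mul, mul_one, map_pow]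
    have hGD2 : ∀ z, GD z • d m = algebraMap A B (a ^ (j + 1)) • z := fun z => by
      show topDet B (j + 1) (exteriorPower.map (j + 1) g z) • d m = _
      rw [hd, ← map_smul, ← top_eq, map_comp_apply,
        show π ∘ₗ g = algebraMap A B a • LinearMap.id from LinearMap.ext hπg, map_id_smul, map_pow]
      rfl
    let Ψ' : ((TensorPower A j (⋀[A]^n B)) ⊗[A] (⋀[A]^n (⋀[B]^(j + 1) M))) →ₗ[A]
        ((TensorPower A j (⋀[A]^n B)) ⊗[A] (⋀[A]^n B)) :=
      LinearMap.lTensor _ (exteriorPower.map n (GD.restrictScalars A))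
    refine ⟨m, Φ', Ψ', s ^ (N + N) * a ^ N, (a ^ (j + 1)) ^ n, hpr (hpow _ hs) (hpow _ ha), hpow _ (hpow _ ha),
      fun u => ?_, fun ζ => ?_, fun v => ?_, fun ζ => ?_, fun x ξ => ?_⟩
    · show exteriorPower.map N ((μ m).restrictScalars A) (theta j (s ^ N • θ' (exteriorPower.map N (g.restrictScalars A) u))) = _
      rw [map_smul, hθθ', smul_smul, ← pow_add, map_smul, map_comp_apply, hμm, hπgA, map_id_smul, LinearMap.smul_apply,
        LinearMap.id_apply, smul_smul]
    · show s ^ N • θ' (exteriorPower.map N (g.restrictScalars A) (exteriorPower.map N ((μ m).restrictScalars A) (theta j ζ))) = _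
      rw [map_comp_apply, hμm, hgπA, map_id_smul, LinearMap.smul_apply, LinearMap.id_apply, map_smul, smul_comm, hθ'θ,
        smul_smul, mul_comm]
    · show LinearMap.lTensor _ (exteriorPower.map n (mu (d m))) (LinearMap.lTensor _ (exteriorPower.map n (GD.restrictScalars A)) v) = _
      rw [← LinearMap.lTensor_comp_apply, ← exteriorPower.map_comp,
        show (mu (A := A) (d m)) ∘ₗ GD.restrictScalars A = a ^ (j + 1) • LinearMap.id from LinearMap.ext fun z => by
          show GD z • d m = a ^ (j + 1) • z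
          rw [hGD2, algebraMap_smul], map_id_smul, LinearMap.lTensor_smul, LinearMap.lTensor_id]
      rfl
    · show LinearMap.lTensor _ (exteriorPower.map n (GD.restrictScalars A)) (LinearMap.lTensor _ (exteriorPower.map n (mu (d m))) ζ) = _
      rw [← LinearMap.lTensor_comp_apply, ← exteriorPower.map_comp (n := n) (M := B),
        show GD.restrictScalars A ∘ₗ mu (A := A) (d m) = a ^ (j + 1) • LinearMap.id from LinearMap.ext fun b => by
          show GD (b • d m) = a ^ (j + 1) • b
          rw [map_smul, hGD1, smul_eq_mul, Algebra.smul_def, mul_comm], map_id_smul, LinearMap.lTensor_smul,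
        LinearMap.lTensor_id]
      rfl
    -- comparison with the chosen generators
    let L : (Fin (j + 1) → B) →ₗ[B] (Fin (j + 1) → B) := g ∘ₗ μ x
    have h1 : a • (μ x).restrictScalars A = π.restrictScalars A ∘ₗ L.restrictScalars A := LinearMap.ext fun v => by
      show a • μ x v = π (g (μ x v))
      rw [hπg, algebraMap_smul]
    have h2 : a ^ (j + 1) • d x = LinearMap.det L • d m := by
      have e1 : π ∘ₗ L = algebraMap A B a • μ x := LinearMap.ext fun v => by
        show π (g (μ x v)) = algebraMap A B a • μ x v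
        rw [hπg]
      have h := map_comp_apply (m := j + 1) L π (topE B (j + 1))
      rw [e1, map_smul', LinearMap.smul_apply, map_endo, map_smul, ← hd, ← map_pow, algebraMap_smul] at h
      exact h.symm
    obtain ⟨l, hl⟩ := exists_det_block πB gB s hπgB hgπB (LinearMap.toMatrix' L)
    set D1 := ((LinearMap.toMatrix' L).map (phi πB gB)).comp (Fin (j + 1)) (Fin (j + 1)) (Fin n) (Fin n) A with hD1
    set D2 := (phi πB gB (LinearMap.toMatrix' L).det).det with hD2
    have hbig : ∀ η, s ^ (N + N) • exteriorPower.map N (L.restrictScalars A) η = (D1.det * s ^ N) • η := fun η => by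
      have hp := map_comp_apply (m := N) (gV j gB) (piV j πB)
      have e0 : piV j πB ∘ₗ gV j gB = s • LinearMap.id := LinearMap.ext (piV_gV j πB gB s hπgB)
      have hd1 : LinearMap.det (gV j gB ∘ₗ L.restrictScalars A ∘ₗ piV j πB) = D1.det := by
        rw [← LinearMap.det_toMatrix', toMatrix_endo, Matrix.det_reindex_self]
      have hp2 : ∀ z, exteriorPower.map N (piV j πB) (exteriorPower.map N (gV j gB) z) = s ^ N • z := fun z => by
        rw [hp, e0, map_id_smul]; rfl
      calc s ^ (N + N) • exteriorPower.map N (L.restrictScalars A) η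
          = exteriorPower.map N (piV j πB) (exteriorPower.map N (gV j gB) (exteriorPower.map N (L.restrictScalars A)
              (exteriorPower.map N (piV j πB) (exteriorPower.map N (gV j gB) η)))) := by
            rw [hp2, hp2, map_smul, smul_smul, ← pow_add]
        _ = exteriorPower.map N (piV j πB) (D1.det • exteriorPower.map N (gV j gB) η) := by
            rw [← hd1, ← map_endo, map_comp_apply (m := N) (piV j πB) (L.restrictScalars A), map_comp_apply (m := N) _ (gV j gB)]
        _ = _ := by rw [map_smul, hp2, smul_smul]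
    have hsmall : ∀ ω, s ^ (n + n) • exteriorPower.map n (LinearMap.mulLeft A (LinearMap.det L)) ω =
        (D2 * s ^ n) • ω := fun ω => by
      have hp2 : ∀ z, exteriorPower.map n πB (exteriorPower.map n gB z) = s ^ n • z := fun z => by
        rw [map_comp_apply, show πB ∘ₗ gB = s • LinearMap.id from LinearMap.ext hπgB, map_id_smul]; rfl
      have hd2 : LinearMap.det (gB ∘ₗ LinearMap.mulLeft A (LinearMap.det L) ∘ₗ πB) = D2 := by
        rw [hD2, LinearMap.det_toMatrix' (f := L)]
        exact (LinearMap.det_toMatrix' _).symm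
      calc s ^ (n + n) • exteriorPower.map n (LinearMap.mulLeft A (LinearMap.det L)) ω
          = exteriorPower.map n πB (exteriorPower.map n gB (exteriorPower.map n (LinearMap.mulLeft A (LinearMap.det L))
              (exteriorPower.map n πB (exteriorPower.map n gB ω)))) := by
            rw [hp2, hp2, map_smul, smul_smul, ← pow_add]
        _ = exteriorPower.map n πB (D2 • exteriorPower.map n gB ω) := by
            rw [← hd2, ← map_endo, map_comp_apply (m := n) πB (LinearMap.mulLeft A (LinearMap.det L)),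
              map_comp_apply (m := n) _ gB]
        _ = _ := by rw [map_smul, hp2, smul_smul]
    refine ⟨a ^ N * s ^ (l + n + (N + N)), hpr (hpow _ ha) (hpow _ hs), (s ^ l * (D1.det * s ^ n) * s ^ N) • ξ, ?_, ?_⟩
    · show (a ^ N * s ^ (l + n + (N + N))) • exteriorPower.map N ((μ x).restrictScalars A) (theta j ξ) =
        exteriorPower.map N ((μ m).restrictScalars A) (theta j ((s ^ l * (D1.det * s ^ n) * s ^ N) • ξ))
      rw [mul_comm, mul_smul, ← LinearMap.smul_apply, ← map_smul', h1, hμm, map_smul (theta j), map_smul,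
        ← map_comp_apply, ← map_smul, show s ^ (l + n + (N + N)) = (s ^ l * s ^ n) * s ^ (N + N) by ring, mul_smul, hbig,
        smul_smul, map_smul]
      congr 1
      ring
    · show (a ^ N * s ^ (l + n + (N + N))) • LinearMap.lTensor _ (exteriorPower.map n (mu (d x))) ξ =
        LinearMap.lTensor _ (exteriorPower.map n (mu (d m))) ((s ^ l * (D1.det * s ^ n) * s ^ N) • ξ)
      have e : a ^ (j + 1) • mu (A := A) (d x) = mu (A := A) (d m) ∘ₗ LinearMap.mulLeft A (LinearMap.det L) :=
        LinearMap.ext fun b => by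
          show a ^ (j + 1) • b • d x = (LinearMap.det L * b) • d m
          rw [mul_comm, mul_smul, ← h2, smul_comm]
      have e2 : (s ^ (n + n) * a ^ N) • exteriorPower.map (M := B) (N := ↥(⋀[B]^(j + 1) M)) n (mu (A := A) (d x)) =
          (D2 * s ^ n) • exteriorPower.map (M := B) (N := ↥(⋀[B]^(j + 1) M)) n (mu (A := A) (d m)) := by
        refine LinearMap.ext fun ω => ?_
        rw [mul_smul, show a ^ N = (a ^ (j + 1)) ^ n by rw [← pow_mul], ← map_smul', e, exteriorPower.map_comp (M := B)]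
        show s ^ (n + n) • exteriorPower.map (M := B) (N := ↥(⋀[B]^(j + 1) M)) n (mu (A := A) (d m))
          (exteriorPower.map (M := B) n (LinearMap.mulLeft A (LinearMap.det L)) ω) =
          (D2 * s ^ n) • exteriorPower.map (M := B) (N := ↥(⋀[B]^(j + 1) M)) n (mu (A := A) (d m)) ω
        rw [← map_smul, hsmall, map_smul]
      obtain ⟨N', hN'⟩ : ∃ N', N = n + N' := ⟨j * n, by rw [hN]; ring⟩
      rw [map_smul, show a ^ N * s ^ (l + n + (N + N)) = (s ^ l * s ^ (N + N') ) * (s ^ (n + n) * a ^ N) by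
          rw [hN']; ring,
        mul_smul, ← LinearMap.smul_apply (s ^ (n + n) * a ^ N), ← LinearMap.lTensor_smul, e2, LinearMap.lTensor_smul,
        LinearMap.smul_apply, smul_smul]
      congr 1
      rw [hl, ← hN, hN']
      ring
  exact nonempty_linearEquiv_of_local Φ Ψ loc

end det

end NormDetLib
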