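import Groth.Agent.InvCritLib.Basic
import Mathlib

/-!
# Scaled inverses near a prime
-/

set_option autoImplicit false
set_option linter.style.haveILetI false

universe u v

namespace NormDetLib

/-- A finite algebra over a local ring has finitely many maximal ideals. -/
theorem finite_maximalSpectrum (A B : Type u) [CommRing A] [IsLocalRing A] [CommRing B] [Algebra A B]
    [Module.Finite A B] : Finite (MaximalSpectrum B) := by
  let m := IsLocalRing.maximalIdeal A
  let J := m.map (algebraMap A B)
  letI := Ideal.Quotient.field m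
  haveI : Module.Finite A (B ⧸ J) :=
    Module.Finite.of_surjective ((Ideal.Quotient.mkₐ A J).toLinearMap) Ideal.Quotient.mk_surjective
  haveI : Module.Finite (A ⧸ m) (B ⧸ J) := Module.Finite.of_restrictScalars_finite A _ _
  haveI : IsArtinianRing (B ⧸ J) := IsArtinianRing.of_finite (A ⧸ m) _
  have hle : ∀ n : MaximalSpectrum B, J ≤ n.asIdeal := fun n => Ideal.map_le_iff_le_comap.2 (by
    haveI := n.isMaximal
    haveI : (n.asIdeal.comap (algebraMap A B)).IsMaximal := Ideal.isMaximal_comap_of_isIntegral_of_isMaximal n.asIdeal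
    exact (IsLocalRing.eq_maximalIdeal this).ge)
  have hc : ∀ n : MaximalSpectrum B, (n.asIdeal.map (Ideal.Quotient.mk J)).IsMaximal := fun n => by
    haveI := n.isMaximal
    exact Ideal.IsMaximal.map_of_surjective_of_ker_le Ideal.Quotient.mk_surjective (by rw [Ideal.mk_ker]; exact hle n)
  refine Finite.of_injective (fun n => (⟨_, hc n⟩ : MaximalSpectrum (B ⧸ J))) fun a b h => MaximalSpectrum.ext ?_
  have h' := congrArg (fun I : MaximalSpectrum (B ⧸ J) => I.asIdeal.comap (Ideal.Quotient.mk J)) h
  simpa [Ideal.comap_map_of_surjective _ Ideal.Quotient.mk_surjective, ← RingHom.ker_eq_comap_bot, Ideal.mk_ker,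
    sup_eq_left.2 (hle a), sup_eq_left.2 (hle b)] using h'

/-- A projective finite module with free localisation is, up to a scalar, free. -/
theorem exists_scaled_inverse {R : Type u} [CommRing R] (S : Submonoid R) (M : Type v) [AddCommGroup M]
    [Module R M] [Module.Finite R M] [Module.Projective R M] {ι : Type*} [Finite ι]
    (b : Module.Basis ι (Localization S) (LocalizedModule S M)) :
    ∃ (π : (ι → R) →ₗ[R] M) (g : M →ₗ[R] (ι → R)) (s : R), s ∈ S ∧
      (∀ x, π (g x) = s • x) ∧ ∀ v, g (π v) = s • v := by
  classical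
  cases nonempty_fintype ι
  let f := LocalizedModule.mkLinearMap S M
  choose e he using fun i => IsLocalizedModule.surj S f (b i)
  let π : (ι → R) →ₗ[R] M := Fintype.linearCombination R fun i => (e i).1
  have hπ : ∀ v, π v = ∑ i, v i • (e i).1 := fun v => Fintype.linearCombination_apply R _ v
  have hli : LinearIndependent (Localization S) fun i => f (e i).1 := by
    have hu : ∀ i, IsUnit (algebraMap R (Localization S) ((e i).2 : R)) := fun i => IsLocalization.map_units _ (e i).2
    have h1 := b.linearIndependent.units_smul fun i => (hu i).unit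
    convert h1 using 1
    funext i
    show f (e i).1 = ((hu i).unit : Localization S) • b i
    rw [IsUnit.unit_spec, algebraMap_smul, ← he i]
    rfl
  -- surjective up to a scalar
  have hcol : ∀ x : M, ∃ c ∈ S, c • x ∈ LinearMap.range π := by
    intro x
    choose r hr using fun i => IsLocalization.surj S (b.repr (f x) i)
    let d : R := ∏ i, ((r i).2 : R)
    have hd : d ∈ S := Submonoid.prod_mem _ fun i _ => (r i).2.2
    choose q hq using fun i => Finset.dvd_prod_of_mem (fun i => ((r i).2 : R)) (Finset.mem_univ i)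
    let D : R := ∏ i, ((e i).2 : R)
    have hD : D ∈ S := Submonoid.prod_mem _ fun i _ => (e i).2.2
    choose Q hQ using fun i => Finset.dvd_prod_of_mem (fun i => ((e i).2 : R)) (Finset.mem_univ i)
    have hfx : f ((D * d) • x) = f (π fun i => (r i).1 * q i * Q i) := by
      rw [hπ, map_sum, map_smul]
      conv_lhs => rw [← b.sum_repr (f x), Finset.smul_sum]
      refine Finset.sum_congr rfl fun i _ => ?_
      rw [map_smul, ← he i, Submonoid.smul_def, ← algebraMap_smul (Localization S) (D * d),
        ← algebraMap_smul (Localization S) ((e i).2 : R), ← algebraMap_smul (Localization S) ((r i).1 * q i * Q i),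
        smul_smul, smul_smul]
      congr 1
      rw [show D = (e i).2 * Q i from hQ i, show d = (r i).2 * q i from hq i]
      simp only [map_mul]
      rw [← hr i]
      ring
    obtain ⟨c, hc⟩ := (IsLocalizedModule.eq_iff_exists S f).1 hfx
    refine ⟨c * (D * d), S.mul_mem c.2 (S.mul_mem hD hd), (c : R) • fun i => (r i).1 * q i * Q i, ?_⟩
    rw [map_smul, mul_smul]
    exact hc.symm
  obtain ⟨G, hG⟩ := Module.Finite.fg_top (R := R) (M := M)
  choose c hc hcx using fun x : G => hcol x
  let s₀ : R := ∏ x : G, c x
  have hs₀ : s₀ ∈ S := Submonoid.prod_mem _ fun x _ => hc x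
  have hrange : ∀ x : M, s₀ • x ∈ LinearMap.range π := by
    intro x
    have hx : x ∈ Submodule.span R (G : Set M) := hG ▸ Submodule.mem_top
    induction hx using Submodule.span_induction with
    | mem y hy =>
      obtain ⟨q, hq⟩ := Finset.dvd_prod_of_mem c (Finset.mem_univ (⟨y, hy⟩ : G))
      rw [show s₀ = c ⟨y, hy⟩ * q from hq, mul_comm, mul_smul]
      exact Submodule.smul_mem _ _ (hcx ⟨y, hy⟩)
    | zero => simp
    | add y z _ _ hy hz => rw [smul_add]; exact add_mem hy hz
    | smul a y _ hy => rw [smul_comm]; exact Submodule.smul_mem _ _ hy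
  obtain ⟨σ, hσ⟩ := Module.projective_lifting_property π.rangeRestrict
    (LinearMap.codRestrict (LinearMap.range π) (s₀ • LinearMap.id) hrange) π.surjective_rangeRestrict
  have hπσ : ∀ x, π (σ x) = s₀ • x := fun x => congrArg Subtype.val (LinearMap.congr_fun hσ x)
  -- injective up to a scalar
  have hker : ∀ v, π v = 0 → ∃ t ∈ S, t • v = 0 := by
    intro v hv
    have h0 : ∑ i, algebraMap R (Localization S) (v i) • f (e i).1 = 0 := by
      simp only [algebraMap_smul, ← map_smul, ← map_sum, ← hπ, hv, map_zero]
    have h1 := Fintype.linearIndependent_iff.1 hli _ h0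
    choose t ht using fun i => (IsLocalization.map_eq_zero_iff S (Localization S) (v i)).1 (h1 i)
    refine ⟨∏ i, (t i : R), Submonoid.prod_mem _ fun i _ => (t i).2, funext fun i => ?_⟩
    obtain ⟨q, hq⟩ := Finset.dvd_prod_of_mem (fun i => (t i : R)) (Finset.mem_univ i)
    rw [Pi.smul_apply, smul_eq_mul, hq, mul_comm (t i : R) q, mul_assoc, ht i, mul_zero, Pi.zero_apply]
  choose t ht htv using fun i => hker (σ (π (Pi.single i 1)) - s₀ • Pi.single i 1) (by
    rw [map_sub, map_smul, hπσ, sub_self])
  let T : R := ∏ i, t i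
  have hTi : ∀ i, T • (σ (π (Pi.single i 1)) - s₀ • Pi.single i 1) = 0 := fun i => by
    obtain ⟨q, hq⟩ := Finset.dvd_prod_of_mem t (Finset.mem_univ i)
    rw [show T = t i * q from hq, mul_comm, mul_smul, htv i, smul_zero]
  refine ⟨π, T • σ, T * s₀, S.mul_mem (Submonoid.prod_mem _ fun i _ => ht i) hs₀, fun x => ?_, fun v => ?_⟩
  · rw [LinearMap.smul_apply, map_smul, hπσ, smul_smul]
  · have : T • (σ ∘ₗ π) = (T * s₀) • LinearMap.id := LinearMap.pi_ext' fun i => LinearMap.ext_ring (by
      have := hTi i
      rw [smul_sub, sub_eq_zero, smul_smul] at this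
      simpa using this)
    exact LinearMap.congr_fun this v

end NormDetLib
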