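import Groth.Agent.NormDetLib.Local

/-!
# Multiplicativity of the norm of invertible modules
-/

set_option autoImplicit false
set_option linter.style.haveILetI false
set_option maxHeartbeats 1000000

universe u v

open TensorProduct

namespace NormDetLib

section map

variable {A : Type u} [CommRing A] {n : ℕ} {M N : Type v} [AddCommGroup M] [Module A M] [AddCommGroup N] [Module A N]

theorem map_smul' (c : A) (f : M →ₗ[A] N) :
    exteriorPower.map n (c • f) = c ^ n • exteriorPower.map n f := by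
  refine exteriorPower.linearMap_ext (AlternatingMap.ext fun v => ?_)
  have := (exteriorPower.ιMulti A n (M := N)).map_smul_univ (fun _ => c) (fun i => f (v i))
  simpa [Finset.prod_const, Function.comp_def] using this

theorem map_id_smul (c : A) :
    exteriorPower.map n (c • LinearMap.id : M →ₗ[A] M) = c ^ n • LinearMap.id := by
  rw [map_smul', exteriorPower.map_id]

/-- An endomorphism of the top power of a module which is free up to a scalar is a scalar up to a scalar. -/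
theorem exists_scalar (π : (Fin n → A) →ₗ[A] M) (g : M →ₗ[A] (Fin n → A)) (s : A)
    (hπg : ∀ x, π (g x) = s • x) (T : (⋀[A]^n M) →ₗ[A] ⋀[A]^n M) :
    ∃ lam : A, ∀ ω, s ^ (n + n) • T ω = lam • ω := by
  classical
  let e : ⋀[A]^n (Fin n → A) := exteriorPower.ιMulti A n fun i => Pi.single i 1
  let det : ⋀[A]^n (Fin n → A) →ₗ[A] A :=
    exteriorPower.alternatingMapLinearEquiv (Pi.basisFun A (Fin n)).det
  have hid : ∀ z, z = det z • e := by
    suffices h : LinearMap.id = det.smulRight e from fun z => LinearMap.congr_fun h z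
    refine exteriorPower.linearMap_ext ((Pi.basisFun A (Fin n)).ext_alternating fun v hv => ?_)
    let σ : Equiv.Perm (Fin n) := Equiv.ofBijective v (Finite.injective_iff_bijective.1 hv)
    have h1 : (fun i => (Pi.basisFun A (Fin n)) (v i)) = (fun i => (Pi.basisFun A (Fin n)) i) ∘ σ := rfl
    have h2 : e = exteriorPower.ιMulti A n fun i => (Pi.basisFun A (Fin n)) i := by simp [e]
    simp only [LinearMap.compAlternatingMap_apply, LinearMap.id_coe, id_eq, LinearMap.smulRight_apply, det,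
      exteriorPower.alternatingMapLinearEquiv_apply_ιMulti, h1]
    rw [AlternatingMap.map_perm, AlternatingMap.map_perm, Module.Basis.det_self, h2]
    simp [Units.smul_def, Int.cast_smul_eq_zsmul]
  set P := exteriorPower.map n π
  set G := exteriorPower.map n g
  have hPG : ∀ ω, P (G ω) = s ^ n • ω := fun ω => by
    have h := exteriorPower.map_comp (n := n) g π
    rw [show π ∘ₗ g = s • LinearMap.id from LinearMap.ext hπg, map_id_smul] at h
    exact (LinearMap.congr_fun h ω).symm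
  refine ⟨det (G (T (P e))) * s ^ n, fun ω => ?_⟩
  calc s ^ (n + n) • T ω = s ^ n • T (s ^ n • ω) := by rw [map_smul, smul_smul, ← pow_add]
    _ = P (G (T (P (G ω)))) := by rw [hPG, hPG]
    _ = P ((det (G ω) * det (G (T (P e)))) • e) := by
        conv_lhs => rw [hid (G ω), map_smul, map_smul, map_smul, hid (G (T (P e))), smul_smul]
    _ = det (G (T (P e))) • P (det (G ω) • e) := by rw [mul_comm, mul_smul, map_smul]
    _ = det (G (T (P e))) • (s ^ n • ω) := by rw [← hid, hPG]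
    _ = _ := by rw [smul_smul]

end map

section graph

variable {A : Type u} [CommRing A] {U V : Type v} [AddCommGroup U] [Module A U] [AddCommGroup V] [Module A V]

/-- An ideal meeting the complement of every prime is the unit ideal. -/
theorem mem_of_locally {W : Type v} [AddCommGroup W] [Module A W] (N : Submodule A W) (x : W)
    (h : ∀ p : PrimeSpectrum A, ∃ s ∉ p.asIdeal, s • x ∈ N) : x ∈ N := by
  let I : Ideal A := N.comap (LinearMap.toSpanSingleton A W x)
  have hI : I = ⊤ := by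
    by_contra hne
    obtain ⟨P, hP, hle⟩ := Ideal.exists_le_maximal I hne
    obtain ⟨s, hs, hsx⟩ := h ⟨P, hP.isPrime⟩
    exact hs (hle hsx)
  have : (1 : A) ∈ I := hI ▸ Submodule.mem_top
  simpa [I] using this

theorem nonempty_linearEquiv_of_graph (G : Submodule A (U × V))
    (hU : ∀ p : PrimeSpectrum A, ∀ u : U, ∃ s ∉ p.asIdeal, ∃ v, (s • u, v) ∈ G)
    (hV : ∀ p : PrimeSpectrum A, ∀ v : V, ∃ s ∉ p.asIdeal, ∃ u, (u, s • v) ∈ G)
    (h0U : ∀ p : PrimeSpectrum A, ∀ x ∈ G, x.1 = 0 → ∃ s ∉ p.asIdeal, s • x.2 = 0)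
    (h0V : ∀ p : PrimeSpectrum A, ∀ x ∈ G, x.2 = 0 → ∃ s ∉ p.asIdeal, s • x.1 = 0) :
    Nonempty (U ≃ₗ[A] V) := by
  let f₁ := LinearMap.fst A U V ∘ₗ G.subtype
  let f₂ := LinearMap.snd A U V ∘ₗ G.subtype
  have hb1 : Function.Bijective f₁ := by
    refine ⟨(injective_iff_map_eq_zero _).2 fun x hx => Subtype.ext (Prod.ext hx ?_),
      LinearMap.range_eq_top.1 (eq_top_iff.2 fun u _ => mem_of_locally _ u fun p => ?_)⟩
    · exact (Submodule.mem_bot A).1 (mem_of_locally ⊥ _ fun p => by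
        simpa using h0U p x.1 x.2 hx)
    · obtain ⟨s, hs, v, hv⟩ := hU p u
      exact ⟨s, hs, ⟨⟨_, hv⟩, rfl⟩⟩
  have hb2 : Function.Bijective f₂ := by
    refine ⟨(injective_iff_map_eq_zero _).2 fun x hx => Subtype.ext (Prod.ext ?_ hx),
      LinearMap.range_eq_top.1 (eq_top_iff.2 fun v _ => mem_of_locally _ v fun p => ?_)⟩
    · exact (Submodule.mem_bot A).1 (mem_of_locally ⊥ _ fun p => by
        simpa using h0V p x.1 x.2 hx)
    · obtain ⟨s, hs, u, hu⟩ := hV p v
      exact ⟨s, hs, ⟨⟨_, hu⟩, rfl⟩⟩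
  exact ⟨(LinearEquiv.ofBijective f₁ hb1).symm.trans (LinearEquiv.ofBijective f₂ hb2)⟩

end graph

section norm

variable {A B : Type u} [CommRing A] [CommRing B] [Algebra A B]

/-- Multiplication by an element of a module. -/
def mu {M : Type u} [AddCommGroup M] [Module B M] [Module A M] [IsScalarTower A B M] (m : M) : B →ₗ[A] M :=
  (LinearMap.toSpanSingleton B M m).restrictScalars A

theorem mu_apply {M : Type u} [AddCommGroup M] [Module B M] [Module A M] [IsScalarTower A B M] (m : M) (b : B) :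
    mu (A := A) m b = b • m := rfl

variable [Module.Finite A B]

/-- A generator near a prime, with an inverse up to a scalar. -/
theorem exists_generator (p : PrimeSpectrum A) (M : Type u) [AddCommGroup M] [Module B M] [Module A M] [IsScalarTower A B M] [Module.Finite B M]
    [Module.Projective B M] (h : ∀ q : PrimeSpectrum B, Module.rankAtStalk M q = 1) :
    ∃ (m : M) (g : M →ₗ[B] B) (a : A), a ∉ p.asIdeal ∧ (∀ x, g x • m = a • (1 : B) • x) ∧
      ∀ b : B, g (b • m) = algebraMap A B a * b := by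
  haveI : Module.Invertible B M := Groth.Agent.InvCritLib.invertible_of_rankAtStalk_one h
  let S := Algebra.algebraMapSubmonoid B p.asIdeal.primeCompl
  haveI : IsLocalRing (Localization.AtPrime p.asIdeal) := inferInstance
  haveI : Finite (MaximalSpectrum (Localization S)) :=
    finite_maximalSpectrum (Localization.AtPrime p.asIdeal) (Localization S)
  haveI : Module.Free (Localization S) (LocalizedModule S M) := inferInstance
  by_cases hS : Nontrivial (Localization S)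
  · let b₁ := Module.basisUnique (Fin 1) (Module.Invertible.finrank_eq_one (Localization S) (LocalizedModule S M))
    obtain ⟨π, g, s, hs, hπg, hgπ⟩ := exists_scaled_inverse S M b₁
    obtain ⟨a, ha, rfl⟩ := hs
    refine ⟨π (Pi.single 0 1), LinearMap.proj 0 ∘ₗ g, a, ha, fun x => ?_, fun c => ?_⟩
    · rw [one_smul, ← algebraMap_smul B a x, ← hπg x, ← map_smul]
      congr 1
      funext i
      fin_cases i
      simp
    · rw [← map_smul, LinearMap.comp_apply, hgπ]
      simp [Algebra.smul_def]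
  · rw [not_nontrivial_iff_subsingleton] at hS
    have h1 : algebraMap B (Localization S) 1 = 0 := Subsingleton.elim _ _
    obtain ⟨⟨_, a, ha, rfl⟩, hc⟩ := (IsLocalization.map_eq_zero_iff S (Localization S) (1 : B)).1 h1
    have ha0 : algebraMap A B a = 0 := by simpa using hc
    exact ⟨0, 0, a, ha, fun x => by rw [one_smul, smul_zero, ← algebraMap_smul B a x, ha0, zero_smul],
      fun c => by rw [LinearMap.zero_apply, ha0, zero_mul]⟩

variable [Module.Projective A B] (M₁ M₂ : Type u) [AddCommGroup M₁] [Module B M₁] [Module A M₁] [IsScalarTower A B M₁]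
  [AddCommGroup M₂] [Module B M₂] [Module A M₂] [IsScalarTower A B M₂]
  [Module.Finite B M₁] [Module.Projective B M₁] [Module.Finite B M₂] [Module.Projective B M₂]

theorem norm_mul (n : ℕ) (hn : ∀ q : PrimeSpectrum A, Module.rankAtStalk B q = n)
    (h₁ : ∀ q : PrimeSpectrum B, Module.rankAtStalk M₁ q = 1)
    (h₂ : ∀ q : PrimeSpectrum B, Module.rankAtStalk M₂ q = 1) :
    Nonempty ((⋀[A]^n B) ⊗[A] (⋀[A]^n (M₁ ⊗[B] M₂)) ≃ₗ[A] (⋀[A]^n M₁) ⊗[A] (⋀[A]^n M₂)) := by
  classical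
  let Q₁ : M₁ → (⋀[A]^n B) →ₗ[A] ⋀[A]^n M₁ := fun x => exteriorPower.map n (mu x)
  let Q₂ : M₂ → (⋀[A]^n B) →ₗ[A] ⋀[A]^n M₂ := fun y => exteriorPower.map n (mu y)
  let P : M₁ → M₂ → (⋀[A]^n B) →ₗ[A] ⋀[A]^n (M₁ ⊗[B] M₂) := fun x y => exteriorPower.map n (mu (x ⊗ₜ[B] y))
  let E : M₁ × M₂ × (⋀[A]^n B) × (⋀[A]^n B) →
      ((⋀[A]^n B) ⊗[A] (⋀[A]^n (M₁ ⊗[B] M₂))) × ((⋀[A]^n M₁) ⊗[A] (⋀[A]^n M₂)) := fun z =>
    (z.2.2.1 ⊗ₜ P z.1 z.2.1 z.2.2.2, Q₁ z.1 z.2.2.1 ⊗ₜ Q₂ z.2.1 z.2.2.2)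
  -- the local data
  have loc : ∀ p : PrimeSpectrum A, ∃ (m₁ : M₁) (m₂ : M₂)
      (P' : (⋀[A]^n (M₁ ⊗[B] M₂)) →ₗ[A] ⋀[A]^n B) (Q₁' : (⋀[A]^n M₁) →ₗ[A] ⋀[A]^n B)
      (Q₂' : (⋀[A]^n M₂) →ₗ[A] ⋀[A]^n B) (c c₁ c₂ c₀ : A),
      c ∉ p.asIdeal ∧ c₁ ∉ p.asIdeal ∧ c₂ ∉ p.asIdeal ∧ c₀ ∉ p.asIdeal ∧
      (∀ ω, P m₁ m₂ (P' ω) = c • ω) ∧ (∀ ω, Q₁ m₁ (Q₁' ω) = c₁ • ω) ∧ (∀ ω, Q₂ m₂ (Q₂' ω) = c₂ • ω) ∧
      (∀ x y, ∃ (T₁ T₂ : (⋀[A]^n B) →ₗ[A] ⋀[A]^n B) (lam : A), (∀ ω, c₀ • T₁ ω = lam • ω) ∧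
        (∀ ω, P' (P x y ω) = T₂ (T₁ ω)) ∧ (∀ ω, Q₁' (Q₁ x ω) = T₁ ω) ∧ (∀ ω, Q₂' (Q₂ y ω) = T₂ ω)) := by
    intro p
    obtain ⟨m₁, g₁, a₁, ha₁, hg₁, hg₁'⟩ := exists_generator p M₁ h₁
    obtain ⟨m₂, g₂, a₂, ha₂, hg₂, hg₂'⟩ := exists_generator p M₂ h₂
    haveI : Module.Free (Localization.AtPrime p.asIdeal) (LocalizedModule p.asIdeal.primeCompl B) :=
      Module.free_of_flat_of_isLocalRing
    let bB := Module.finBasisOfFinrankEq (Localization.AtPrime p.asIdeal) (LocalizedModule p.asIdeal.primeCompl B) (hn p)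
    obtain ⟨πB, gB, sB, hsB, hπgB, -⟩ := exists_scaled_inverse p.asIdeal.primeCompl B bB
    let G₁ : M₁ →ₗ[A] B := g₁.restrictScalars A
    let G₂ : M₂ →ₗ[A] B := g₂.restrictScalars A
    let g12 : M₁ ⊗[B] M₂ →ₗ[B] B := (TensorProduct.lid B B).toLinearMap ∘ₗ TensorProduct.map g₁ g₂
    let G : M₁ ⊗[B] M₂ →ₗ[A] B := g12.restrictScalars A
    have hpr : ∀ {a b : A}, a ∉ p.asIdeal → b ∉ p.asIdeal → a * b ∉ p.asIdeal :=
      fun ha hb h => (p.2.mem_or_mem h).elim ha hb
    have hpow : ∀ {a : A} (j : ℕ), a ∉ p.asIdeal → a ^ j ∉ p.asIdeal :=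
      fun j ha h => ha (p.2.mem_of_pow_mem j h)
    refine ⟨m₁, m₂, exteriorPower.map n G, exteriorPower.map n G₁, exteriorPower.map n G₂,
      (a₁ * a₂) ^ n, a₁ ^ n, a₂ ^ n, sB ^ (n + n), hpow _ (hpr ha₁ ha₂), hpow _ ha₁, hpow _ ha₂, hpow _ hsB,
      ?_, ?_, ?_, fun x y => ?_⟩
    · intro ω
      have e : (mu (A := A) (m₁ ⊗ₜ[B] m₂)) ∘ₗ G = (a₁ * a₂) • LinearMap.id := LinearMap.ext fun z => by
        induction z using TensorProduct.induction_on with
        | zero => simp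
        | add u v hu hv => simp only [map_add, hu, hv]
        | tmul u v =>
          show (g₁ u * g₂ v) • (m₁ ⊗ₜ[B] m₂) = (a₁ * a₂) • (u ⊗ₜ[B] v)
          have e1 := hg₁ u
          have e2 := hg₂ v
          rw [one_smul, ← algebraMap_smul B a₁] at e1
          rw [one_smul, ← algebraMap_smul B a₂] at e2
          rw [← algebraMap_smul B (a₁ * a₂), map_mul, ← TensorProduct.smul_tmul_smul, e1, e2,
            TensorProduct.smul_tmul_smul]
      have h := exteriorPower.map_comp (n := n) G (mu (A := A) (m₁ ⊗ₜ[B] m₂))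
      rw [e, map_id_smul] at h
      exact (LinearMap.congr_fun h ω).symm
    · intro ω
      have e : (mu (A := A) m₁) ∘ₗ G₁ = a₁ • LinearMap.id := LinearMap.ext fun z => by
        simpa [G₁, mu_apply] using hg₁ z
      have h := exteriorPower.map_comp (n := n) G₁ (mu (A := A) m₁)
      rw [e, map_id_smul] at h
      exact (LinearMap.congr_fun h ω).symm
    · intro ω
      have e : (mu (A := A) m₂) ∘ₗ G₂ = a₂ • LinearMap.id := LinearMap.ext fun z => by
        simpa [G₂, mu_apply] using hg₂ z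
      have h := exteriorPower.map_comp (n := n) G₂ (mu (A := A) m₂)
      rw [e, map_id_smul] at h
      exact (LinearMap.congr_fun h ω).symm
    · let T₁ := exteriorPower.map n (LinearMap.mulRight A (g₁ x))
      let T₂ := exteriorPower.map n (LinearMap.mulRight A (g₂ y))
      obtain ⟨lam, hlam⟩ := exists_scalar πB gB sB hπgB T₁
      refine ⟨T₁, T₂, lam, hlam, ?_, ?_, ?_⟩
      · intro ω
        have e : G ∘ₗ mu (A := A) (x ⊗ₜ[B] y) = LinearMap.mulRight A (g₂ y) ∘ₗ LinearMap.mulRight A (g₁ x) :=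
          LinearMap.ext fun b => by
            show g12 (b • (x ⊗ₜ[B] y)) = b * g₁ x * g₂ y
            rw [map_smul, smul_eq_mul, mul_assoc]
            rfl
        have h := exteriorPower.map_comp (n := n) (M := B) (mu (A := A) (x ⊗ₜ[B] y)) G
        rw [e, exteriorPower.map_comp] at h
        exact (LinearMap.congr_fun h ω).symm
      · intro ω
        have e : G₁ ∘ₗ mu (A := A) x = LinearMap.mulRight A (g₁ x) :=
          LinearMap.ext fun b => by simp [G₁, mu_apply]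
        have h := exteriorPower.map_comp (n := n) (M := B) (mu (A := A) x) G₁
        rw [e] at h
        exact (LinearMap.congr_fun h ω).symm
      · intro ω
        have e : G₂ ∘ₗ mu (A := A) y = LinearMap.mulRight A (g₂ y) :=
          LinearMap.ext fun b => by simp [G₂, mu_apply]
        have h := exteriorPower.map_comp (n := n) (M := B) (mu (A := A) y) G₂
        rw [e] at h
        exact (LinearMap.congr_fun h ω).symm
  have hnot : ∀ (p : PrimeSpectrum A) {a b : A}, a ∉ p.asIdeal → b ∉ p.asIdeal → a * b ∉ p.asIdeal :=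
    fun p _ _ ha hb h => (p.2.mem_or_mem h).elim ha hb
  refine nonempty_linearEquiv_of_graph (Submodule.span A (Set.range E)) (fun p u => ?_) (fun p v => ?_)
    (fun p z hz hz0 => ?_) (fun p z hz hz0 => ?_)
  all_goals obtain ⟨m₁, m₂, P', Q₁', Q₂', c, c₁, c₂, c₀, hc, hc₁, hc₂, hc₀, hP, hQ₁, hQ₂, hxy⟩ := loc p
  · refine ⟨c, hc, ?_⟩
    induction u using TensorProduct.induction_on with
    | zero => exact ⟨0, by rw [smul_zero]; exact Submodule.zero_mem _⟩
    | add u u' hu hu' =>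
      obtain ⟨v, hv⟩ := hu
      obtain ⟨v', hv'⟩ := hu'
      exact ⟨v + v', by rw [smul_add]; exact Submodule.add_mem _ hv hv'⟩
    | tmul ω η =>
      refine ⟨_, Submodule.subset_span ⟨(m₁, m₂, ω, P' η), Prod.ext ?_ rfl⟩⟩
      show ω ⊗ₜ P m₁ m₂ (P' η) = c • (ω ⊗ₜ η)
      rw [hP, tmul_smul]
  · refine ⟨c₁ * c₂, hnot p hc₁ hc₂, ?_⟩
    induction v using TensorProduct.induction_on with
    | zero => exact ⟨0, by rw [smul_zero]; exact Submodule.zero_mem _⟩
    | add v v' hv hv' =>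
      obtain ⟨u, hu⟩ := hv
      obtain ⟨u', hu'⟩ := hv'
      exact ⟨u + u', by rw [smul_add]; exact Submodule.add_mem _ hu hu'⟩
    | tmul ω η =>
      refine ⟨_, Submodule.subset_span ⟨(m₁, m₂, Q₁' ω, Q₂' η), Prod.ext rfl ?_⟩⟩
      show Q₁ m₁ (Q₁' ω) ⊗ₜ Q₂ m₂ (Q₂' η) = (c₁ * c₂) • (ω ⊗ₜ η)
      rw [hQ₁, hQ₂, smul_tmul_smul]
  · let F : ((⋀[A]^n B) ⊗[A] (⋀[A]^n (M₁ ⊗[B] M₂))) →ₗ[A] ((⋀[A]^n M₁) ⊗[A] (⋀[A]^n M₂)) :=
      TensorProduct.map (Q₁ m₁) (Q₂ m₂ ∘ₗ P')
    have hF : ∀ w ∈ Submodule.span A (Set.range E), c₀ • F w.1 = (c₀ * (c₁ * c₂)) • w.2 := by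
      intro w hw
      induction hw using Submodule.span_induction with
      | zero => simp
      | add u v _ _ hu hv => simp only [Prod.fst_add, Prod.snd_add, map_add, smul_add, hu, hv]
      | smul a u _ hu => rw [Prod.smul_fst, Prod.smul_snd, map_smul, smul_comm, hu, smul_comm]
      | mem _ hw =>
        obtain ⟨⟨x, y, ω, η⟩, rfl⟩ := hw
        obtain ⟨T₁, T₂, lam, hlam, hT, hT₁, hT₂⟩ := hxy x y
        show c₀ • (Q₁ m₁ ω ⊗ₜ[A] Q₂ m₂ (P' (P x y η))) = (c₀ * (c₁ * c₂)) • (Q₁ x ω ⊗ₜ[A] Q₂ y η)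
        rw [mul_smul, ← smul_tmul_smul c₁ c₂, ← hQ₁, ← hQ₂, hT₁, hT₂, hT, ← tmul_smul, ← map_smul, ← map_smul,
          hlam, map_smul, map_smul, tmul_smul, smul_tmul', ← map_smul, ← hlam, map_smul]
        rw [← smul_tmul']
    exact ⟨c₀ * (c₁ * c₂), hnot p hc₀ (hnot p hc₁ hc₂), by rw [← hF z hz, hz0, map_zero, smul_zero]⟩
  · let F : ((⋀[A]^n M₁) ⊗[A] (⋀[A]^n M₂)) →ₗ[A] ((⋀[A]^n B) ⊗[A] (⋀[A]^n (M₁ ⊗[B] M₂))) :=
      TensorProduct.map Q₁' (P m₁ m₂ ∘ₗ Q₂')
    have hF : ∀ w ∈ Submodule.span A (Set.range E), c₀ • F w.2 = (c₀ * c) • w.1 := by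
      intro w hw
      induction hw using Submodule.span_induction with
      | zero => simp
      | add u v _ _ hu hv => simp only [Prod.fst_add, Prod.snd_add, map_add, smul_add, hu, hv]
      | smul a u _ hu => rw [Prod.smul_fst, Prod.smul_snd, map_smul, smul_comm, hu, smul_comm]
      | mem _ hw =>
        obtain ⟨⟨x, y, ω, η⟩, rfl⟩ := hw
        obtain ⟨T₁, T₂, lam, hlam, hT, hT₁, hT₂⟩ := hxy x y
        show c₀ • (Q₁' (Q₁ x ω) ⊗ₜ[A] P m₁ m₂ (Q₂' (Q₂ y η))) = (c₀ * c) • (ω ⊗ₜ[A] P x y η)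
        rw [hT₁, hT₂, mul_smul, ← tmul_smul c, ← hP, hT, ← tmul_smul c₀ ω, ← map_smul, ← map_smul T₂, hlam, map_smul,
          map_smul, tmul_smul, smul_tmul', smul_tmul', hlam]
    exact ⟨c₀ * c, hnot p hc₀ hc, by rw [← hF z hz, hz0, map_zero, smul_zero]⟩

end norm

end NormDetLib
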